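import Groth.Prelude.Def_Formal2
import Mathlib.AlgebraicGeometry.Modules.Sheaf

/-!
# Quotients by powers of an ideal of the base: categorical calculus
-/

universe u

open CategoryTheory CategoryTheory.Limits AlgebraicGeometry Opposite TopologicalSpace

namespace GrothLib.FormalSys

open Formal

variable {A : Type u} [CommRing A] {X : Scheme.{u}} [X.Over (Spec (CommRingCat.of A))]
variable {M N P : X.Modules}

/-- Multiplication by a scalar is natural. -/
@[reassoc]
lemma smulMod_naturality (φ : M ⟶ N) (a : A) :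
    smulMod A M a ≫ φ = φ ≫ smulMod A N a := by
  apply Scheme.Modules.hom_ext
  intro U
  ext m
  exact (φ.val.app (op U)).hom.map_smul (Coh.resTop X (op U) (Coh.toGlobal (X ↘ Spec (CommRingCat.of A)) a)) m

lemma smulMod_one : smulMod A M 1 = 𝟙 M := by
  apply (SheafOfModules.toSheaf _).map_injective
  have := Coh.smulAb_one M
  rw [← map_one (Coh.toGlobal (X ↘ Spec (CommRingCat.of A)))] at this
  exact this

lemma smulMod_mul (a b : A) : smulMod A M (a * b) = smulMod A M b ≫ smulMod A M a := by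
  apply (SheafOfModules.toSheaf _).map_injective
  have := Coh.smulAb_mul M (Coh.toGlobal (X ↘ Spec (CommRingCat.of A)) a) (Coh.toGlobal (X ↘ Spec (CommRingCat.of A)) b)
  rw [← map_mul] at this
  refine Eq.trans ?_ ((SheafOfModules.toSheaf X.ringCatSheaf).map_comp _ _).symm
  exact this

lemma smulMod_add (a b : A) : smulMod A M (a + b) = smulMod A M a + smulMod A M b := by
  apply (SheafOfModules.toSheaf _).map_injective
  have := Coh.smulAb_add M (Coh.toGlobal (X ↘ Spec (CommRingCat.of A)) a) (Coh.toGlobal (X ↘ Spec (CommRingCat.of A)) b)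
  rw [← map_add] at this
  refine Eq.trans ?_ (Functor.map_add (SheafOfModules.toSheaf X.ringCatSheaf)).symm
  exact this

lemma smulFamily_comp_eq_zero_iff {J : Ideal A} {φ : M ⟶ N} :
    smulFamily J M ≫ φ = 0 ↔ ∀ a ∈ J, smulMod A M a ≫ φ = 0 := by
  constructor
  · intro h a ha
    have := congrArg (fun ψ => Sigma.ι (fun _ : J => M) ⟨a, ha⟩ ≫ ψ) h
    simpa [smulFamily] using this
  · intro h
    refine Sigma.hom_ext _ _ fun a => ?_
    simpa [smulFamily] using h a a.2

/-- A morphism into a module killed by `J` kills the multiples by `J`. -/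
lemma smulFamily_comp_eq_zero {J : Ideal A} (φ : M ⟶ N) (hN : KilledBy J N) :
    smulFamily J M ≫ φ = 0 :=
  smulFamily_comp_eq_zero_iff.2 fun a ha => by rw [smulMod_naturality, hN a ha, comp_zero]

lemma killedBy_of_epi {J : Ideal A} (φ : M ⟶ N) [Epi φ] (hM : KilledBy J M) : KilledBy J N :=
  fun a ha => by rw [← cancel_epi φ, ← smulMod_naturality, hM a ha, zero_comp, comp_zero]

lemma killedBy_of_mono {J : Ideal A} (φ : M ⟶ N) [Mono φ] (hN : KilledBy J N) : KilledBy J M :=
  fun a ha => by rw [← cancel_mono φ, smulMod_naturality, hN a ha, comp_zero, zero_comp]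

lemma killedBy_mono {J K : Ideal A} (h : K ≤ J) (hM : KilledBy J M) : KilledBy K M :=
  fun a ha => hM a (h ha)

/-- `π` exhibits `N` as the quotient of `M` by the multiples by `J`. -/
def IsQuot (J : Ideal A) (π : M ⟶ N) : Prop :=
  ∃ h : smulFamily J M ≫ π = 0, IsIso (cokernel.desc _ _ h)

namespace IsQuot

variable {J K : Ideal A} {π : M ⟶ N}

lemma cokernelπ (J : Ideal A) (M : X.Modules) : IsQuot J (cokernel.π (smulFamily J M)) := by
  refine ⟨cokernel.condition _, ?_⟩
  have : cokernel.desc _ _ (cokernel.condition (smulFamily J M)) = 𝟙 _ := coequalizer.hom_ext (by simp)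
  rw [this]
  infer_instance

lemma modPowπ (I : Ideal A) (n : ℕ) (M : X.Modules) : IsQuot (I ^ n) (Formal.modPowπ I n M) :=
  cokernelπ _ _

lemma comp_eq_zero (hπ : IsQuot J π) : ∀ a ∈ J, smulMod A M a ≫ π = 0 :=
  smulFamily_comp_eq_zero_iff.1 hπ.choose

lemma epi (hπ : IsQuot J π) : Epi π := by
  obtain ⟨h, hi⟩ := hπ
  rw [← cokernel.π_desc (smulFamily J M) π h]
  exact epi_comp _ _

lemma killedBy (hπ : IsQuot J π) : KilledBy J N := fun a ha => by
  have := hπ.epi
  rw [← cancel_epi π, ← smulMod_naturality, hπ.comp_eq_zero a ha, comp_zero]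

lemma exists_desc (hπ : IsQuot J π) (φ : M ⟶ P) (hφ : ∀ a ∈ J, smulMod A M a ≫ φ = 0) :
    ∃ ψ : N ⟶ P, π ≫ ψ = φ := by
  obtain ⟨h, hi⟩ := hπ
  refine ⟨inv (cokernel.desc _ _ h) ≫ cokernel.desc _ φ (smulFamily_comp_eq_zero_iff.2 hφ), ?_⟩
  refine (cokernel.π_desc_assoc (smulFamily J M) π h _).symm.trans ?_
  simp

lemma exists_desc' (hπ : IsQuot J π) (φ : M ⟶ P) (hP : KilledBy J P) :
    ∃ ψ : N ⟶ P, π ≫ ψ = φ :=
  hπ.exists_desc φ fun a ha => by rw [smulMod_naturality, hP a ha, comp_zero]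

lemma mk' [Epi π] (h : ∀ a ∈ J, smulMod A M a ≫ π = 0)
    (hd : ∃ ψ : N ⟶ cokernel (smulFamily J M), π ≫ ψ = cokernel.π _) : IsQuot J π := by
  have h' := smulFamily_comp_eq_zero_iff.2 h
  refine ⟨h', ?_⟩
  obtain ⟨ψ, hψ⟩ := hd
  refine ⟨ψ, coequalizer.hom_ext ?_, ?_⟩
  · simp [hψ]
  · rw [← cancel_epi π, reassoc_of% hψ]
    simp

lemma id_of_killedBy (h : KilledBy J M) : IsQuot J (𝟙 M) :=
  mk' (fun a ha => by rw [h a ha, zero_comp]) ⟨cokernel.π _, Category.id_comp _⟩

lemma isIso_of_killedBy (hπ : IsQuot J π) (h : KilledBy J M) : IsIso π := by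
  obtain ⟨ψ, hψ⟩ := hπ.exists_desc' (𝟙 M) h
  have := hπ.epi
  exact ⟨ψ, hψ, by rw [← cancel_epi π, reassoc_of% hψ, Category.comp_id]⟩

/-- Quotient of a quotient by a larger ideal. -/
lemma trans (hπ : IsQuot J π) {ρ : N ⟶ P} (hρ : IsQuot K ρ) (hJK : J ≤ K) : IsQuot K (π ≫ ρ) := by
  have := hπ.epi
  have := hρ.epi
  refine mk' (fun a ha => by rw [smulMod_naturality_assoc, hρ.comp_eq_zero a ha, comp_zero]) ?_
  obtain ⟨χ, hχ⟩ := hπ.exists_desc' (cokernel.π (smulFamily K M))
    (killedBy_mono hJK (cokernelπ K M).killedBy)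
  obtain ⟨ω, hω⟩ := hρ.exists_desc' χ (cokernelπ K M).killedBy
  exact ⟨ω, by rw [Category.assoc, hω, hχ]⟩

/-- If `π ≫ ρ` and `π` are quotients then so is `ρ`. -/
lemma of_comp (hπ : IsQuot J π) {ρ : N ⟶ P} (h : IsQuot K (π ≫ ρ)) : IsQuot K ρ := by
  have := hπ.epi
  have := h.epi
  have : Epi ρ := epi_of_epi π ρ
  refine mk' (fun a ha => by rw [← cancel_epi π, ← smulMod_naturality_assoc, h.comp_eq_zero a ha, comp_zero]) ?_
  obtain ⟨ω, hω⟩ := h.exists_desc' (π ≫ cokernel.π (smulFamily K N)) (cokernelπ K N).killedBy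
  exact ⟨ω, by rw [← cancel_epi π, ← hω, Category.assoc]⟩

lemma comp_isIso (hπ : IsQuot J π) (e : N ⟶ P) [IsIso e] : IsQuot J (π ≫ e) := by
  have := hπ.epi
  refine mk' (fun a ha => by rw [reassoc_of% (hπ.comp_eq_zero a ha), zero_comp]) ?_
  obtain ⟨ψ, hψ⟩ := hπ.exists_desc' (cokernel.π _) (cokernelπ J M).killedBy
  exact ⟨inv e ≫ ψ, by simp [hψ]⟩

lemma isIso_comp (hπ : IsQuot J π) (e : P ⟶ M) [IsIso e] : IsQuot J (e ≫ π) := by
  have := hπ.epi
  refine mk' (fun a ha => by rw [smulMod_naturality_assoc, hπ.comp_eq_zero a ha, comp_zero]) ?_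
  obtain ⟨ψ, hψ⟩ := hπ.exists_desc' (inv e ≫ cokernel.π _) (cokernelπ J P).killedBy
  exact ⟨ψ, by simp [hψ]⟩

/-- Two quotients of the same module are isomorphic compatibly. -/
lemma exists_iso (hπ : IsQuot J π) {π' : M ⟶ P} (hπ' : IsQuot J π') : ∃ e : N ≅ P, π ≫ e.hom = π' := by
  obtain ⟨f, hf⟩ := hπ.exists_desc' π' hπ'.killedBy
  obtain ⟨g, hg⟩ := hπ'.exists_desc' π hπ.killedBy
  have := hπ.epi
  have := hπ'.epi
  exact ⟨⟨f, g, by rw [← cancel_epi π, reassoc_of% hf, hg, Category.comp_id],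
    by rw [← cancel_epi π', reassoc_of% hg, hf, Category.comp_id]⟩, hf⟩

end IsQuot

variable {I : Ideal A}

lemma killedBy_modPow (n : ℕ) (M : X.Modules) : KilledBy (I ^ n) (modPow I n M) :=
  (IsQuot.modPowπ I n M).killedBy

@[simp, reassoc]
lemma completion_map_succ (M : X.Modules) (n : ℕ) :
    Formal.modPowπ I (n + 2) M ≫ (completion I M).map (homOfLE (Nat.le_succ n)).op =
      Formal.modPowπ I (n + 1) M := by
  rw [show (completion I M).map (homOfLE (Nat.le_succ n)).op = modPowTrans I (n + 1) M from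
    Functor.ofOpSequence_map_homOfLE_succ (X := fun n => modPow I (n + 1) M) (fun n => modPowTrans I (n + 1) M) n]
  exact modPowπ_trans I (n + 1) M

@[reassoc]
lemma modPowπ_completion_map (M : X.Modules) {m n : ℕ} (h : n ≤ m) :
    Formal.modPowπ I (m + 1) M ≫ (completion I M).map (homOfLE h).op =
      Formal.modPowπ I (n + 1) M := by
  induction m, h using Nat.le_induction with
  | base => exact (congrArg (_ ≫ ·) ((completion I M).map_id _)).trans (Category.comp_id _)
  | succ m hm ih =>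
    have : (homOfLE (hm.trans (Nat.le_succ m))).op = (homOfLE (Nat.le_succ m)).op ≫ (homOfLE hm).op := rfl
    rw [this, Functor.map_comp]
    refine (Category.assoc _ _ _).symm.trans ?_
    exact (congrArg (· ≫ _) (completion_map_succ M m)).trans ih

lemma isQuot_map {G : ℕᵒᵖ ⥤ X.Modules} (hG : IsCohFormal I G) {m n : ℕ} (h : n ≤ m) :
    IsQuot (I ^ (n + 1)) (G.map (homOfLE h).op) := by
  induction m, h using Nat.le_induction with
  | base =>
    have : G.map (homOfLE (le_refl n)).op = 𝟙 _ := G.map_id _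
    rw [this]
    exact IsQuot.id_of_killedBy (hG.2.1 n)
  | succ m hm ih =>
    have : (homOfLE (hm.trans (Nat.le_succ m))).op = (homOfLE (Nat.le_succ m)).op ≫ (homOfLE hm).op := rfl
    rw [this, Functor.map_comp]
    exact IsQuot.trans (hG.2.2 m) ih (Ideal.pow_le_pow_right (by omega))

/-- A morphism of systems is determined by commutation with the successor maps. -/
noncomputable def natTrans {F G : ℕᵒᵖ ⥤ X.Modules} (φ : ∀ n, F.obj (op n) ⟶ G.obj (op n))
    (h : ∀ n, F.map (homOfLE (Nat.le_succ n)).op ≫ φ n = φ (n + 1) ≫ G.map (homOfLE (Nat.le_succ n)).op) :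
    F ⟶ G :=
  NatTrans.ofOpSequence φ h

@[simp]
lemma natTrans_app {F G : ℕᵒᵖ ⥤ X.Modules} (φ : ∀ n, F.obj (op n) ⟶ G.obj (op n))
    (h : ∀ n, F.map (homOfLE (Nat.le_succ n)).op ≫ φ n = φ (n + 1) ≫ G.map (homOfLE (Nat.le_succ n)).op)
    (n : ℕ) : (natTrans φ h).app (op n) = φ n := rfl

/-- Full faithfulness to pro-objects: a levelwise map out of a re-indexed system factors uniquely. -/
theorem existsUnique_of_reindex {F G : ℕᵒᵖ ⥤ X.Modules} (hF : IsCohFormal I F)
    (hG : ∀ n, KilledBy (I ^ (n + 1)) (G.obj (op n))) {m : ℕ → ℕ} (hm : Monotone m)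
    (hle : ∀ n, n ≤ m n) (π : (Monotone.functor hm).op ⋙ F ⟶ F)
    (hπ : ∀ n : ℕ, π.app (op n) = F.map (homOfLE (hle n)).op) (α : (Monotone.functor hm).op ⋙ F ⟶ G) :
    ∃! β : F ⟶ G, π ≫ β = α := by
  have hq : ∀ n, IsQuot (I ^ (n + 1)) (π.app (op n)) := fun n => hπ n ▸ isQuot_map hF (hle n)
  choose φ hφ using fun n => (hq n).exists_desc' (α.app (op n)) (hG n)
  have hnat : ∀ n, F.map (homOfLE (Nat.le_succ n)).op ≫ φ n = φ (n + 1) ≫ G.map (homOfLE (Nat.le_succ n)).op := by
    intro n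
    have := (hq (n + 1)).epi
    rw [← cancel_epi (π.app (op (n + 1))), ← Category.assoc, ← Category.assoc, hφ,
      ← π.naturality, Category.assoc, hφ]
    exact α.naturality _
  refine ⟨natTrans φ hnat, ?_, fun β hβ => ?_⟩
  · ext n : 2
    exact hφ n.unop
  · ext n : 2
    have := (hq n.unop).epi
    rw [← cancel_epi (π.app n)]
    exact (congrArg (fun z => z.app n) hβ).trans (hφ n.unop).symm

/-- Pro-isomorphic formal modules are isomorphic. -/
theorem nonempty_iso_of_isProIso {F G : ℕᵒᵖ ⥤ X.Modules} (hF : IsCohFormal I F)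
    (hG : IsCohFormal I G) {m : ℕ → ℕ} (hm : Monotone m) (hle : ∀ n, n ≤ m n)
    (a : (Monotone.functor hm).op ⋙ F ⟶ G)
    (ha : ∀ n : ℕ, ∃ (M : ℕ) (h : n ≤ M) (b : G.obj (op M) ⟶ F.obj (op (m n))),
      a.app (op M) ≫ b = F.map (homOfLE (hm h)).op ∧ b ≫ a.app (op n) = G.map (homOfLE h).op) :
    Nonempty (F ≅ G) := by
  let π : (Monotone.functor hm).op ⋙ F ⟶ F :=
    { app := fun n => F.map (homOfLE (hle n.unop)).op
      naturality := fun n k f => by
        simp only [Functor.comp_map, ← F.map_comp]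
        rfl }
  obtain ⟨β, hβ, -⟩ := existsUnique_of_reindex hF hG.2.1 hm hle π (fun n => rfl) a
  have hiso : ∀ n : ℕ, IsIso (β.app (op n)) := by
    intro n
    obtain ⟨M, h, b, hab, hba⟩ := ha n
    obtain ⟨γ, hγ⟩ := (isQuot_map hG h).exists_desc' (b ≫ F.map (homOfLE (hle n)).op) (hF.2.1 n)
    have hap : ∀ k : ℕ, F.map (homOfLE (hle k)).op ≫ β.app (op k) = a.app (op k) := fun k =>
      congrArg (fun z => z.app (op k)) hβ
    have := (isQuot_map hG h).epi
    have := (IsQuot.trans (isQuot_map hF (hle M)) (isQuot_map hF h)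
      (Ideal.pow_le_pow_right (by omega))).epi
    refine ⟨γ, ?_, ?_⟩
    · rw [← cancel_epi (F.map (homOfLE (hle M)).op ≫ F.map (homOfLE h).op), Category.comp_id]
      have h1 : (F.map (homOfLE (hle M)).op ≫ F.map (homOfLE h).op) ≫ β.app (op n) ≫ γ
          = (F.map (homOfLE (hle M)).op ≫ β.app (op M)) ≫ G.map (homOfLE h).op ≫ γ := by
        simp only [Category.assoc, β.naturality_assoc]
      refine h1.trans ((congrArg (· ≫ _) (hap M)).trans ?_)
      refine (congrArg (a.app (op M) ≫ ·) hγ).trans ?_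
      refine ((Category.assoc _ _ _).symm.trans (congrArg (· ≫ _) hab)).trans ?_
      exact (F.map_comp _ _).symm.trans ((congrArg F.map (Subsingleton.elim _ _)).trans (F.map_comp _ _))
    · rw [← cancel_epi (G.map (homOfLE h).op), ← Category.assoc, hγ, Category.assoc, Category.comp_id]
      exact (congrArg (b ≫ ·) (hap n)).trans hba
  have hall : ∀ k, IsIso (β.app k) := fun k => hiso k.unop
  have := NatIso.isIso_of_isIso_app β
  exact ⟨asIso β⟩

/-- A system of compatible quotients of `M` is the completion of `M`. -/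
theorem exists_completion_iso {G : ℕᵒᵖ ⥤ X.Modules} {M : X.Modules} (π : ∀ n, M ⟶ G.obj (op n))
    (hπ : ∀ n, IsQuot (I ^ (n + 1)) (π n))
    (hcompat : ∀ n, π (n + 1) ≫ G.map (homOfLE (Nat.le_succ n)).op = π n) :
    Nonempty (completion I M ≅ G) := by
  choose e he using fun n => (IsQuot.modPowπ I (n + 1) M).exists_iso (hπ n)
  have hnat : ∀ n, (completion I M).map (homOfLE (Nat.le_succ n)).op ≫ (e n).hom =
      (e (n + 1)).hom ≫ G.map (homOfLE (Nat.le_succ n)).op := by
    intro n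
    have := (IsQuot.modPowπ I (n + 1 + 1) M).epi
    refine (cancel_epi (Formal.modPowπ I (n + 1 + 1) M)).1 ?_
    refine (Category.assoc _ _ _).symm.trans (Eq.trans ?_ (Category.assoc _ _ _))
    refine ((congrArg (· ≫ _) (completion_map_succ M n)).trans (he n)).trans ?_
    exact ((congrArg (· ≫ _) (he (n + 1))).trans (hcompat n)).symm
  let β : completion I M ⟶ G := natTrans (fun n => (e n).hom) hnat
  have hall : ∀ k, IsIso (β.app k) := fun k => inferInstanceAs (IsIso (e k.unop).hom)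
  have := NatIso.isIso_of_isIso_app β
  exact ⟨asIso β⟩

/-- A formal module killed by a fixed power is the system of quotients of one of its terms. -/
theorem exists_iso_completion_of_killedBy {G : ℕᵒᵖ ⥤ X.Modules} (hG : IsCohFormal I G) (c : ℕ)
    (hc : ∀ n, KilledBy (I ^ c) (G.obj (op n))) :
    Nonempty (completion I (G.obj (op c)) ≅ G) := by
  let π : ∀ n, G.obj (op c) ⟶ G.obj (op n) := fun n =>
    haveI : IsIso (G.map (homOfLE (Nat.le_max_left c n)).op) :=
      (isQuot_map hG (Nat.le_max_left c n)).isIso_of_killedBy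
        (killedBy_mono (Ideal.pow_le_pow_right (Nat.le_succ c)) (hc _))
    inv (G.map (homOfLE (Nat.le_max_left c n)).op) ≫ G.map (homOfLE (Nat.le_max_right c n)).op
  have hπ : ∀ n, IsQuot (I ^ (n + 1)) (π n) := fun n => by
    haveI : IsIso (G.map (homOfLE (Nat.le_max_left c n)).op) :=
      (isQuot_map hG (Nat.le_max_left c n)).isIso_of_killedBy
        (killedBy_mono (Ideal.pow_le_pow_right (Nat.le_succ c)) (hc _))
    exact (isQuot_map hG _).isIso_comp _
  have hcompat : ∀ n, π (n + 1) ≫ G.map (homOfLE (Nat.le_succ n)).op = π n := by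
    intro n
    dsimp only [π]
    haveI : IsIso (G.map (homOfLE (Nat.le_max_left c (n + 1))).op) :=
      (isQuot_map hG _).isIso_of_killedBy (killedBy_mono (Ideal.pow_le_pow_right (Nat.le_succ c)) (hc _))
    haveI : IsIso (G.map (homOfLE (Nat.le_max_left c n)).op) :=
      (isQuot_map hG _).isIso_of_killedBy (killedBy_mono (Ideal.pow_le_pow_right (Nat.le_succ c)) (hc _))
    have h1 : max c n ≤ max c (n + 1) := max_le_max le_rfl (Nat.le_succ n)
    have e1 : G.map (homOfLE (Nat.le_max_left c (n + 1))).op =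
        G.map (homOfLE h1).op ≫ G.map (homOfLE (Nat.le_max_left c n)).op := by
      rw [← G.map_comp]; rfl
    rw [Category.assoc, IsIso.inv_comp_eq, e1, Category.assoc, IsIso.hom_inv_id_assoc, ← G.map_comp, ← G.map_comp]
    rfl
  exact exists_completion_iso π hπ hcompat

end GrothLib.FormalSys
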