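import Groth.Agent.Lib.FormalSys.Quot
import Groth.Agent.Lib.OX.Stalk

/-!
# Quotients by powers of a principal ideal
-/

universe u

open CategoryTheory CategoryTheory.Limits AlgebraicGeometry Opposite

namespace GrothLib.FormalSys

open Formal

variable {A : Type u} [CommRing A] {X : Scheme.{u}} [X.Over (Spec (CommRingCat.of A))]
variable {M N : X.Modules}

lemma comp_eq_zero_span_pow_iff (f : A) (n : ℕ) (φ : M ⟶ N) :
    (∀ a ∈ (Ideal.span ({f} : Set A)) ^ n, smulMod A M a ≫ φ = 0) ↔ smulMod A M (f ^ n) ≫ φ = 0 := by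
  rw [Ideal.span_singleton_pow]
  refine ⟨fun h => h _ (Ideal.mem_span_singleton_self _), fun h a ha => ?_⟩
  obtain ⟨c, rfl⟩ := Ideal.mem_span_singleton'.1 ha
  rw [mul_comm, smulMod_mul, Category.assoc, h, comp_zero]

/-- The short exact sequences `F/fF → F/f^{n+1}F → F/f^nF`. -/
theorem exists_shortExact_modPow (f : A) (F : X.Modules) (hF : Mono (smulMod A F f)) (n : ℕ)
    (hn : 1 ≤ n) :
    ∃ i : modPow (Ideal.span ({f} : Set A)) 1 F ⟶ modPow (Ideal.span ({f} : Set A)) (n + 1) F,
      Mono i ∧ Formal2.modPowLE (Ideal.span ({f} : Set A)) (Nat.le_add_left 1 n) F ≫ i =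
        smulMod A (modPow (Ideal.span ({f} : Set A)) (n + 1) F) (f ^ n) ∧
      ∃ w : i ≫ modPowTrans (Ideal.span ({f} : Set A)) n F = 0,
        (ShortComplex.mk i (modPowTrans (Ideal.span ({f} : Set A)) n F) w).ShortExact := by
  set J := Ideal.span ({f} : Set A) with hJ
  have hfn : ∀ k, Mono (smulMod A F (f ^ k)) := by
    intro k
    induction k with
    | zero => rw [pow_zero, smulMod_one]; infer_instance
    | succ k ih => rw [pow_succ, smulMod_mul]; exact mono_comp _ _
  have hq := fun k => IsQuot.modPowπ J k F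
  have h0 : ∀ a ∈ J ^ 1, smulMod A F a ≫ (smulMod A F (f ^ n) ≫ Formal.modPowπ J (n + 1) F) = 0 := by
    rw [comp_eq_zero_span_pow_iff, ← Category.assoc, ← smulMod_mul, pow_one, ← pow_succ]
    exact (comp_eq_zero_span_pow_iff f (n + 1) _).1 (hq (n + 1)).comp_eq_zero
  obtain ⟨i, hi⟩ := (hq 1).exists_desc _ h0
  have := (hq 1).epi
  have := (hq (n + 1)).epi
  have := (hq n).epi
  have htr : Formal.modPowπ J (n + 1) F ≫ modPowTrans J n F = Formal.modPowπ J n F := modPowπ_trans J n F
  have w : i ≫ modPowTrans J n F = 0 := by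
    rw [← cancel_epi (Formal.modPowπ J 1 F), reassoc_of% hi, htr, comp_zero]
    exact (comp_eq_zero_span_pow_iff f n _).1 (hq n).comp_eq_zero
  have hLE : Formal2.modPowLE J (Nat.le_add_left 1 n) F ≫ i =
      smulMod A (modPow J (n + 1) F) (f ^ n) := by
    rw [← cancel_epi (Formal.modPowπ J (n + 1) F),
      reassoc_of% (Formal2.modPowπ_modPowLE J (Nat.le_add_left 1 n) F), hi, ← smulMod_naturality]
  -- the complex `F → F → F/f^{n+1}F`
  have hw1 : smulMod A F f ≫ (smulMod A F (f ^ n) ≫ Formal.modPowπ J (n + 1) F) = 0 := by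
    have := (comp_eq_zero_span_pow_iff f 1 _).1 h0
    rwa [pow_one] at this
  have hex : (ShortComplex.mk _ _ hw1).Exact := by
    rw [ShortComplex.exact_iff_exact_up_to_refinements]
    intro T x hx
    let φ := smulMod A F (f ^ (n + 1))
    have hwn : φ ≫ Formal.modPowπ J (n + 1) F = 0 :=
      (comp_eq_zero_span_pow_iff f (n + 1) _).1 (hq (n + 1)).comp_eq_zero
    have hc : (ShortComplex.mk φ (Formal.modPowπ J (n + 1) F) hwn).Exact := by
      refine ShortComplex.exact_of_g_is_cokernel _ (CokernelCofork.IsColimit.ofπ _ _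
        (fun {Z} g hg => ((hq (n + 1)).exists_desc g ((comp_eq_zero_span_pow_iff f (n + 1) g).2 hg)).choose)
        (fun {Z} g hg => ((hq (n + 1)).exists_desc g ((comp_eq_zero_span_pow_iff f (n + 1) g).2 hg)).choose_spec)
        (fun {Z} g hg m hm => (cancel_epi (Formal.modPowπ J (n + 1) F)).1 (hm.trans
          ((hq (n + 1)).exists_desc g ((comp_eq_zero_span_pow_iff f (n + 1) g).2 hg)).choose_spec.symm)))
    rw [ShortComplex.exact_iff_exact_up_to_refinements] at hc
    obtain ⟨T', p, hp, y, hy⟩ := hc (x ≫ smulMod A F (f ^ n)) (by simpa using hx)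
    refine ⟨T', p, hp, y, ?_⟩
    have := hfn n
    dsimp at hy ⊢
    rw [← cancel_mono (smulMod A F (f ^ n)), Category.assoc, Category.assoc, hy, ← smulMod_mul, ← pow_succ]
  have hmono : Mono i := by
    have hce : (ShortComplex.mk (smulMod A F f) (Formal.modPowπ J 1 F)
        (by simpa using (comp_eq_zero_span_pow_iff f 1 _).1 (hq 1).comp_eq_zero)).Exact := by
      refine ShortComplex.exact_of_g_is_cokernel _ (CokernelCofork.IsColimit.ofπ _ _
        (fun {Z} g hg => ((hq 1).exists_desc g ((comp_eq_zero_span_pow_iff f 1 g).2 (by simpa using hg))).choose)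
        (fun {Z} g hg => ((hq 1).exists_desc g ((comp_eq_zero_span_pow_iff f 1 g).2 (by simpa using hg))).choose_spec)
        (fun {Z} g hg m hm => (cancel_epi (Formal.modPowπ J 1 F)).1 (hm.trans
          ((hq 1).exists_desc g ((comp_eq_zero_span_pow_iff f 1 g).2 (by simpa using hg))).choose_spec.symm)))
    refine Preadditive.mono_of_cancel_zero _ fun {T} x hx => ?_
    obtain ⟨T', p, hp, z, hz⟩ := surjective_up_to_refinements_of_epi (Formal.modPowπ J 1 F) x
    have hz0 : z ≫ (smulMod A F (f ^ n) ≫ Formal.modPowπ J (n + 1) F) = 0 := by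
      rw [← hi, ← Category.assoc, ← hz, Category.assoc, hx, comp_zero]
    rw [ShortComplex.exact_iff_exact_up_to_refinements] at hex
    obtain ⟨T'', q, hq', y, hy⟩ := hex z hz0
    dsimp at hy
    rw [← cancel_epi p, ← cancel_epi q, hz, reassoc_of% hy]
    have : smulMod A F f ≫ Formal.modPowπ J 1 F = 0 := by
      simpa using (comp_eq_zero_span_pow_iff f 1 _).1 (hq 1).comp_eq_zero
    simp [this]
  have hd : ∀ {Z : X.Modules} (g : modPow J (n + 1) F ⟶ Z), i ≫ g = 0 →
      ∃ l : modPow J n F ⟶ Z, modPowTrans J n F ≫ l = g := by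
    intro Z g hg
    have h1 : smulMod A F (f ^ n) ≫ (Formal.modPowπ J (n + 1) F ≫ g) = 0 := by
      rw [← Category.assoc, ← hi, Category.assoc, hg, comp_zero]
    obtain ⟨l, hl⟩ := (hq n).exists_desc _ ((comp_eq_zero_span_pow_iff f n _).2 h1)
    refine ⟨l, (cancel_epi (Formal.modPowπ J (n + 1) F)).1 ?_⟩
    rw [reassoc_of% htr, hl]
  have hepi : Epi (modPowTrans J n F) := epi_of_epi_fac htr
  refine ⟨i, hmono, hLE, w, ShortComplex.ShortExact.mk' ?_ hmono hepi⟩
  exact ShortComplex.exact_of_g_is_cokernel _ (CokernelCofork.IsColimit.ofπ _ _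
    (fun g hg => (hd g hg).choose) (fun g hg => (hd g hg).choose_spec)
    (fun g hg m hm => (cancel_epi (modPowTrans J n F)).1 (hm.trans (hd g hg).choose_spec.symm)))

end GrothLib.FormalSys
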